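import Cfsg.Agent.Classical.PSLTwoTorus
import Cfsg.Agent.Classical.SmallSubPSL

/-!
Hall {2,3}-subgroups of PSL(2,q).
-/

set_option autoImplicit false

namespace CfsgLib.PSLTwoHall

open CfsgLib.Dickson

variable {F : Type*} [Field F] [Finite F] (p : ℕ) [Fact p.Prime] [CharP F p]

/-- The arithmetic of the two torus orders. -/
theorem split (hp : 5 ≤ p) :
    Odd (Nat.card F) ∧ 5 ≤ Nat.card F ∧ ¬ 3 ∣ Nat.card F ∧
      ∃ s t : ℕ, ((Nat.card F % 4 = 1 ∧ s = Nat.card F - 1 ∧ t = Nat.card F + 1) ∨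
          (Nat.card F % 4 = 3 ∧ s = Nat.card F + 1 ∧ t = Nat.card F - 1)) ∧
        4 ∣ s ∧ t % 4 = 2 ∧ Nat.card F ^ 2 - 1 = s * t ∧
        2 * Nat.card (PSL2 F) = Nat.card F * (s * t) := by
  have := Fintype.ofFinite F
  obtain ⟨n, hpr, hn⟩ := FiniteField.card F p
  rw [← Nat.card_eq_fintype_card] at hn
  have hodd : Odd (Nat.card F) := hn ▸ (hpr.odd_of_ne_two (by omega)).pow
  have h5 : 5 ≤ Nat.card F := hn ▸ hp.trans (Nat.le_self_pow n.pos.ne' p)
  have h3 : ¬ 3 ∣ Nat.card F := fun h => by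
    rw [hn] at h
    have := (Nat.prime_dvd_prime_iff_eq Nat.prime_three hpr).1 (Nat.prime_three.dvd_of_dvd_pow h)
    omega
  refine ⟨hodd, h5, h3, ?_⟩
  have hm := CfsgLib.Linear.PSLTwo.mul_card (F := F)
  rw [CfsgLib.Linear.PSLTwo.gcd_eq_two hodd] at hm
  have hsq := CfsgLib.Linear.PSLTwo.sq_sub_one (Nat.card F)
  obtain ⟨j, hj⟩ := hodd
  rcases (show Nat.card F % 4 = 1 ∨ Nat.card F % 4 = 3 by omega) with h | h
  · exact ⟨_, _, Or.inl ⟨h, rfl, rfl⟩, by omega, by omega, hsq, by rw [hm, hsq]⟩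
  · refine ⟨_, _, Or.inr ⟨h, rfl, rfl⟩, by omega, by omega, by rw [hsq, mul_comm], by rw [hm, hsq, mul_comm (Nat.card F + 1)]⟩

variable {p}

theorem factorization_two_of_mod_four {t : ℕ} (ht : t % 4 = 2) : t.factorization 2 = 1 := by
  have h1 := (Nat.prime_two.dvd_iff_one_le_factorization (show t ≠ 0 by omega)).1 (by omega)
  have h2 : ¬ 2 ≤ t.factorization 2 := fun h => by
    have := (Nat.prime_two.pow_dvd_iff_le_factorization (show t ≠ 0 by omega)).2 h
    omega
  omega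

/-- Divisors whose prime factors are two and three. -/
theorem eq_of_factorization {a b : ℕ} (ha : a ≠ 0) (hb : b ≠ 0)
    (ha' : ∀ r, r.Prime → r ∣ a → r = 2 ∨ r = 3) (hb' : ∀ r, r.Prime → r ∣ b → r = 2 ∨ r = 3)
    (h2 : a.factorization 2 = b.factorization 2) (h3 : a.factorization 3 = b.factorization 3) : a = b := by
  refine Nat.eq_of_factorization_eq ha hb fun r => ?_
  by_cases hr : r.Prime
  · by_cases h : r = 2 ∨ r = 3
    · rcases h with rfl | rfl <;> assumption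
    · rw [Nat.factorization_eq_zero_of_not_dvd fun hd => h (ha' r hr hd),
        Nat.factorization_eq_zero_of_not_dvd fun hd => h (hb' r hr hd)]
  · rw [Nat.factorization_eq_zero_of_not_prime _ hr, Nat.factorization_eq_zero_of_not_prime _ hr]

end CfsgLib.PSLTwoHall
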